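import Mathlib

/-!
Ladder KUL (Kulakoff / P. Hall: number of subgroups of order `p ^ k` modulo `p ^ 2`): definitions.
-/

set_option autoImplicit false

namespace Cfsg.Agent.Lib.Helper24.Kul

/-- number of subgroups of order `p ^ k` of `G` -/
noncomputable def sc (p k : ℕ) (G : Type*) [Group G] : ℕ :=
  Nat.card {H : Subgroup G // Nat.card H = p ^ k}

/-- number of subgroups of order `p ^ k` of `G` contained in `L` -/
noncomputable def scIn (p k : ℕ) {G : Type*} [Group G] (L : Subgroup G) : ℕ :=
  Nat.card {H : Subgroup G // H ≤ L ∧ Nat.card H = p ^ k}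

/-- the subgroups of index `p` -/
def Mx (p : ℕ) (G : Type*) [Group G] : Set (Subgroup G) := {M | M.index = p}

/-- the intersections of two different subgroups of index `p` -/
def Tw (p : ℕ) (G : Type*) [Group G] : Set (Subgroup G) :=
  {T | ∃ M₁ M₂ : Subgroup G, M₁.index = p ∧ M₂.index = p ∧ M₁ ≠ M₂ ∧ T = M₁ ⊓ M₂}

end Cfsg.Agent.Lib.Helper24.Kul
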